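import Mathlib
import Cfsg.Agent.H613.RegGram
import Cfsg.Agent.H642.F2
import Cfsg.Agent.S4637
import Cfsg.Agent.S0973
import Cfsg.Agent.S0908
import Cfsg.Agent.H613.Contrib
import Cfsg.Agent.H606.HeightBound
import Cfsg.Agent.H644.Maximal

/-!
# Blocks with a Klein four defect group: the Gram matrix on the 2-regular elements

* `sign_of_rank_one` : integral symmetric `4 × 4` matrices `N` with `N² = 4 N`, trace 4 and nonzero diagonal are
  `ε εᵀ`, `ε = ±1`;
* `klein` : for a 2-block `B` with defect group `2²`: `k(B) = 4` and `4 rg = 4 - ε εᵀ` or `4 rg = ε εᵀ`.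
-/

set_option autoImplicit false

open Cfsg
open scoped ComplexConjugate

namespace Cfsg.Agent.H645.KKL

open Cfsg.Agent.H613.RegGram Cfsg.Agent.Blocks.Blau Cfsg.Agent.Blocks.Local Cfsg.Agent.Characters

theorem sign_of_rank_one {I : Type*} [Fintype I] [DecidableEq I] (h4 : Fintype.card I = 4) (N : I → I → ℤ)
    (hs : ∀ i j, N i j = N j i) (hN : ∀ i j, ∑ k, N i k * N k j = 4 * N i j) (ht : ∑ i, N i i = 4)
    (h0 : ∀ i, N i i ≠ 0) : ∃ ε : I → ℤ, (∀ i, ε i = 1 ∨ ε i = -1) ∧ ∀ i j, N i j = ε i * ε j := by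
  have hsq : ∀ i, ∑ k, N i k * N i k = 4 * N i i := by
    intro i
    rw [← hN i i]
    exact Finset.sum_congr rfl fun k _ => by rw [hs k i]
  have hpos : ∀ i, 1 ≤ N i i := by
    intro i
    have h1 : 0 ≤ ∑ k, N i k * N i k := Finset.sum_nonneg fun k _ => mul_self_nonneg _
    rw [hsq i] at h1
    have := h0 i
    omega
  have hone : ∀ i, N i i = 1 := by
    have h1 : ∑ i, (N i i - 1) = 0 := by
      rw [Finset.sum_sub_distrib, ht]
      simp [h4]
    have h2 := (Finset.sum_eq_zero_iff_of_nonneg (fun i _ => by have := hpos i; omega)).1 h1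
    intro i
    have := h2 i (Finset.mem_univ i)
    omega
  have hcs : ∀ i j, N i j * N i j ≤ 1 := by
    intro i j
    have h1 : 0 ≤ ∑ k, (N i k - N i j * N j k) * (N i k - N i j * N j k) :=
      Finset.sum_nonneg fun k _ => mul_self_nonneg _
    have h2 : ∑ k, (N i k - N i j * N j k) * (N i k - N i j * N j k) =
        ∑ k, N i k * N i k - 2 * N i j * ∑ k, N i k * N k j + N i j * N i j * ∑ k, N j k * N j k := by
      rw [Finset.mul_sum, Finset.mul_sum, ← Finset.sum_sub_distrib, ← Finset.sum_add_distrib]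
      refine Finset.sum_congr rfl fun k _ => ?_
      rw [hs k j]
      ring
    rw [h2, hsq i, hN i j, hsq j, hone i, hone j] at h1
    nlinarith
  have hall : ∀ i j, N i j * N i j = 1 := by
    intro i
    have h1 : ∑ j, (1 - N i j * N i j) = 0 := by
      rw [Finset.sum_sub_distrib, hsq i, hone i]
      simp [h4]
    have h2 := (Finset.sum_eq_zero_iff_of_nonneg (fun j _ => by have := hcs i j; omega)).1 h1
    intro j
    have := h2 j (Finset.mem_univ j)
    omega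
  have hmul : ∀ i j k, N i k = N i j * N j k := by
    intro i j k
    have h2 : ∑ k, (N i k - N i j * N j k) * (N i k - N i j * N j k) = 0 := by
      have h3 : ∑ k, (N i k - N i j * N j k) * (N i k - N i j * N j k) =
          ∑ k, N i k * N i k - 2 * N i j * ∑ k, N i k * N k j + N i j * N i j * ∑ k, N j k * N j k := by
        rw [Finset.mul_sum, Finset.mul_sum, ← Finset.sum_sub_distrib, ← Finset.sum_add_distrib]
        refine Finset.sum_congr rfl fun k _ => ?_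
        rw [hs k j]
        ring
      rw [h3, hsq i, hN i j, hsq j, hone i, hone j]
      have := hall i j
      nlinarith
    have h4' := (Finset.sum_eq_zero_iff_of_nonneg (fun k _ => mul_self_nonneg _)).1 h2 k (Finset.mem_univ k)
    have := mul_self_eq_zero.1 h4'
    omega
  have hne : Nonempty I := Fintype.card_pos_iff.1 (by omega)
  obtain ⟨i₀⟩ := hne
  refine ⟨fun i => N i₀ i, fun i => mul_self_eq_one_iff.1 (hall i₀ i), fun i j => ?_⟩
  rw [hmul i i₀ j, hs i i₀]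

universe u

variable {G : Type u} [Group G] [Finite G] {M : Ideal AlgInt} {B : Set (IrrCharacter G)}

/-- `rg χ χ` is a nonnegative real number, nonzero for irreducible `χ`. -/
theorem rg_self_eq [Fintype G] (χ : G → ℂ) : ∃ r : ℝ, 0 ≤ r ∧ rg 2 χ χ = (r : ℂ) ∧ (r = 0 → χ 1 = 0) := by
  classical
  refine ⟨(Nat.card G : ℝ)⁻¹ * ∑ x : G with ¬ 2 ∣ orderOf x, ‖χ x‖ ^ 2, by positivity, ?_, ?_⟩
  · rw [rg_def, Cfsg.Agent.H613.Contrib.pair_eq_sum_filter]
    push_cast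
    congr 1
    refine Finset.sum_congr rfl fun x _ => ?_
    rw [Complex.mul_conj, Complex.normSq_eq_norm_sq]
    push_cast
    rfl
  · intro h
    have hc : (Nat.card G : ℝ)⁻¹ ≠ 0 := inv_ne_zero (by exact_mod_cast Nat.card_pos.ne')
    have h1 := (mul_eq_zero.1 h).resolve_left hc
    have h2 := (Finset.sum_eq_zero_iff_of_nonneg (fun x _ => by positivity)).1 h1 1 (by
      rw [Finset.mem_filter]
      exact ⟨Finset.mem_univ _, by rw [orderOf_one]; norm_num⟩)
    rw [pow_eq_zero_iff two_ne_zero, norm_eq_zero] at h2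
    exact h2

theorem rg_self_ne_zero [Fintype G] (χ : IrrCharacter G) : rg 2 (χ : G → ℂ) (χ : G → ℂ) ≠ 0 := by
  obtain ⟨r, -, h1, h2⟩ := rg_self_eq (χ : G → ℂ)
  intro h
  rw [h1] at h
  have h3 := h2 (by exact_mod_cast h)
  rw [apply_one_eq_charDegree] at h3
  exact charDegree_ne_zero χ (by exact_mod_cast h3)

/-- `rg χ χ ≠ 1` for a member of a block of positive defect. -/
theorem rg_self_ne_one [Fintype G] (hM : IsPModular 2 M) (hB : IsPBlock M B) (hd : blockDefect 2 B ≠ 0)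
    {χ : IrrCharacter G} (hχ : χ ∈ B) : rg 2 (χ : G → ℂ) (χ : G → ℂ) ≠ 1 := by
  classical
  have : Fact (Nat.Prime 2) := ⟨Nat.prime_two⟩
  intro h
  have hv : ∀ g : G, 2 ∣ orderOf g → (χ : G → ℂ) g = 0 := by
    have h1 : classInner (χ : G → ℂ) (χ : G → ℂ) = 1 := Core.classInner_irr_self χ.2
    rw [Core.classInner_def] at h1
    have h2 : ∑ x : G, (χ : G → ℂ) x * conj ((χ : G → ℂ) x) =
        ∑ x : G with ¬ 2 ∣ orderOf x, (χ : G → ℂ) x * conj ((χ : G → ℂ) x) +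
        ∑ x : G with ¬ ¬ 2 ∣ orderOf x, (χ : G → ℂ) x * conj ((χ : G → ℂ) x) :=
      (Finset.sum_filter_add_sum_filter_not _ _ _).symm
    rw [rg_def, Cfsg.Agent.H613.Contrib.pair_eq_sum_filter] at h
    rw [h2, mul_add, h] at h1
    have hc : (Nat.card G : ℂ)⁻¹ ≠ 0 := inv_ne_zero (by exact_mod_cast Nat.card_pos.ne')
    have h3 : ∑ x : G with ¬ ¬ 2 ∣ orderOf x, (χ : G → ℂ) x * conj ((χ : G → ℂ) x) = 0 := by
      have h4 : (Nat.card G : ℂ)⁻¹ * ∑ x : G with ¬ ¬ 2 ∣ orderOf x, (χ : G → ℂ) x * conj ((χ : G → ℂ) x) = 0 := by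
        linear_combination h1
      exact (mul_eq_zero.1 h4).resolve_left hc
    have h5 : ∑ x : G with ¬ ¬ 2 ∣ orderOf x, ‖(χ : G → ℂ) x‖ ^ 2 = 0 := by
      have : ((∑ x : G with ¬ ¬ 2 ∣ orderOf x, ‖(χ : G → ℂ) x‖ ^ 2 : ℝ) : ℂ) = 0 := by
        rw [← h3]
        push_cast
        refine Finset.sum_congr rfl fun x _ => ?_
        rw [Complex.mul_conj, Complex.normSq_eq_norm_sq]
        push_cast
        rfl
      exact_mod_cast this
    intro g hg
    have h6 := (Finset.sum_eq_zero_iff_of_nonneg (fun x _ => by positivity)).1 h5 g (by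
      rw [Finset.mem_filter]
      exact ⟨Finset.mem_univ _, not_not.2 hg⟩)
    rwa [pow_eq_zero_iff two_ne_zero, norm_eq_zero] at h6
  have h7 := Cfsg.Agent.H642.F2.blockOf_eq_of_vanish hM hv
  have : M.IsPrime := hM.2.1.isPrime
  have h8 : B = {χ} := by
    rw [← h7]
    exact Blocks.Basic.isPBlock_eq_blockOf hB hχ
  apply hd
  have h9 := Cfsg.Agent.H606.HeightBound.pow_dvd_of_vanish (p := 2) χ hv
  have h10 : (Nat.card G).factorization 2 ≤ (charDegree (χ : G → ℂ)).factorization 2 := by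
    rw [← Nat.Prime.pow_dvd_iff_le_factorization Nat.prime_two (charDegree_ne_zero χ)]
    exact h9
  unfold blockDefect
  rw [h8]
  simp only [Set.image_singleton, csInf_singleton]
  omega

theorem exists_pair4 (hM : IsPModular 2 M) (hB : IsPBlock M B) {V : Subgroup G} (hV : IsDefectGroup 2 M B V)
    (hx : ∀ v ∈ V, v * v = 1) :
    ∃ (c : Set (IrrCharacter ↥(Subgroup.centralizer (V : Set G)))) (T : Subgroup G),
      IsInducedBlock M (Subgroup.centralizer (V : Set G)) c B ∧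
      ∀ g : G, g ∈ T ↔ (g ∈ Subgroup.normalizer (V : Set G) ∧
        StabilizesBlock (Subgroup.centralizer (V : Set G)) c g) := by
  have : Fact (Nat.Prime 2) := ⟨Nat.prime_two⟩
  have : M.IsPrime := hM.2.1.isPrime
  have hcomm : ∀ x ∈ V, ∀ y ∈ V, x * y = y * x := by
    intro x hx' y hy
    have h1 := hx _ (V.mul_mem hx' hy)
    have h2 := hx x hx'
    have h3 := hx y hy
    have e1 : x⁻¹ = x := inv_eq_of_mul_eq_one_left h2
    have e2 : y⁻¹ = y := inv_eq_of_mul_eq_one_left h3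
    have e3 : (x * y)⁻¹ = x * y := inv_eq_of_mul_eq_one_left h1
    rw [← e3, mul_inv_rev, e1, e2]
  have hDC : V ≤ Subgroup.centralizer (V : Set G) := by
    intro x hx'
    rw [Subgroup.mem_centralizer_iff]
    intro y hy
    exact hcomm y hy x hx'
  have hL : V ⊔ Subgroup.centralizer (V : Set G) = Subgroup.centralizer (V : Set G) :=
    sup_eq_right.2 hDC
  have key : ∀ L : Subgroup G, L = V ⊔ Subgroup.centralizer (V : Set G) →
      ∃ b : Set (IrrCharacter L), IsDefectGroup 2 M b (V.subgroupOf L) ∧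
        IsInducedBlock M L b B := by
    rintro L rfl
    exact (Cfsg.Agent.S0973.result 2 M hM B hB V hV).1
  obtain ⟨c, hcD, hc⟩ := key _ hL.symm
  exact ⟨c, Cfsg.Agent.H644.pairStab M V c, hc,
    fun g => Cfsg.Agent.H644.mem_pairStab_iff_stabilizesBlock hM hc.1⟩

/-- **Blocks with a Klein four defect group.** -/
theorem klein [Fintype G] (hM : IsPModular 2 M) (hB : IsPBlock M B) {V : Subgroup G} (hV : IsDefectGroup 2 M B V)
    (h4 : Nat.card ↥V = 4) (hx : ∀ v ∈ V, v * v = 1) :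
    Nat.card ↥B = 4 ∧ ∃ ε : IrrCharacter G → ℤ, (∀ χ, ε χ = 1 ∨ ε χ = -1) ∧
      ((blockRank 2 B = 1 ∧ ∀ χ ∈ B, ∀ ψ ∈ B, 4 * rg 2 (χ : G → ℂ) (ψ : G → ℂ) = (ε χ : ℂ) * (ε ψ : ℂ)) ∨
        (blockRank 2 B = 3 ∧ ∀ χ ∈ B, ∀ ψ ∈ B, 4 * rg 2 (χ : G → ℂ) (ψ : G → ℂ) =
          4 * (if χ = ψ then 1 else 0) - (ε χ : ℂ) * (ε ψ : ℂ))) := by
  classical
  have : Fact (Nat.Prime 2) := ⟨Nat.prime_two⟩
  obtain ⟨c, T, hc, hT⟩ := exists_pair4 hM hB hV hx
  have hK : IsKleinFour ↥V := by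
    refine ⟨h4, ?_⟩
    have h1 : Monoid.exponent ↥V ∣ 2 := Monoid.exponent_dvd_of_forall_pow_eq_one fun v => by
      apply Subtype.ext
      rw [pow_two]
      exact hx v v.2
    rcases (Nat.dvd_prime Nat.prime_two).1 h1 with h | h
    · exfalso
      rw [Monoid.exp_eq_one_iff] at h
      have := Nat.card_of_subsingleton (1 : ↥V)
      omega
    · exact h
  obtain ⟨he, hk, hl⟩ := Cfsg.Agent.S4637.result M hM B hB V hV hK c hc T hT _ rfl
  have hd : blockDefect 2 B = 2 := by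
    have h1 := Cfsg.Agent.S0908.result 2 M hM B hB V hV
    rw [h4] at h1
    exact (Nat.pow_right_injective le_rfl (by rw [← h1]; norm_num : (2 : ℕ) ^ 2 = 2 ^ blockDefect 2 B)).symm
  have hfin : Finite ↥B := Nat.finite_of_card_ne_zero (by rw [hk]; norm_num)
  have : Fintype ↥B := Fintype.ofFinite _
  have hcard : Fintype.card ↥B = 4 := by rw [← Nat.card_eq_fintype_card, hk]
  choose k hk' using fun χ ψ : ↥B => exists_int_rg hM χ.2 (ψ : IrrCharacter G)
  have hk4 : ∀ χ ψ : ↥B, 4 * rg 2 ((χ : IrrCharacter G) : G → ℂ) ((ψ : IrrCharacter G) : G → ℂ) = (k χ ψ : ℂ) := by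
    intro χ ψ
    rw [← hk' χ ψ, hd]
    norm_num
  have hsym : ∀ χ ψ : ↥B, k χ ψ = k ψ χ := by
    intro χ ψ
    have h1 := hk4 χ ψ
    rw [rg_comm 2 (Core.isIrr_isCharacter χ.1.2) (Core.isIrr_isCharacter ψ.1.2), hk4 ψ χ] at h1
    exact_mod_cast h1.symm
  have hmul : ∀ χ ψ : ↥B, ∑ ζ, k χ ζ * k ζ ψ = 4 * k χ ψ := by
    intro χ ψ
    have h1 := sum_rg_mul_rg hM hB (ψ := (ψ : IrrCharacter G)) χ.2
    have h2 : ((∑ ζ, k χ ζ * k ζ ψ : ℤ) : ℂ) = ((4 * k χ ψ : ℤ) : ℂ) := by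
      push_cast
      rw [← hk4 χ ψ, ← h1, Finset.mul_sum, Finset.mul_sum]
      refine Finset.sum_congr rfl fun ζ _ => ?_
      rw [← hk4 χ ζ, ← hk4 ζ ψ]
      ring
    exact_mod_cast h2
  have htr : ∑ ζ : ↥B, k ζ ζ = 4 * (blockRank 2 B : ℤ) := by
    have h1 := sum_rg_self hM hB
    have h2 : ((∑ ζ : ↥B, k ζ ζ : ℤ) : ℂ) = ((4 * (blockRank 2 B : ℤ) : ℤ) : ℂ) := by
      push_cast
      rw [← h1, Finset.mul_sum]
      exact Finset.sum_congr rfl fun ζ _ => (hk4 ζ ζ).symm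
    exact_mod_cast h2
  have h0 : ∀ ζ : ↥B, k ζ ζ ≠ 0 := by
    intro ζ h
    have h1 := hk4 ζ ζ
    rw [h] at h1
    exact rg_self_ne_zero ζ.1 (by simpa using h1)
  have h40 : ∀ ζ : ↥B, k ζ ζ ≠ 4 := by
    intro ζ h
    have h1 := hk4 ζ ζ
    rw [h] at h1
    exact rg_self_ne_one hM hB (by rw [hd]; norm_num) ζ.2 (by push_cast at h1; linear_combination h1 / 4)
  refine ⟨hk, ?_⟩
  have hext : ∀ ε : ↥B → ℤ, (∀ i, ε i = 1 ∨ ε i = -1) → ∃ ε' : IrrCharacter G → ℤ, (∀ χ, ε' χ = 1 ∨ ε' χ = -1) ∧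
      ∀ i : ↥B, ε' i = ε i := by
    intro ε hε
    refine ⟨fun χ => if h : χ ∈ B then ε ⟨χ, h⟩ else 1, fun χ => ?_, fun i => ?_⟩
    · by_cases h : χ ∈ B
      · simp only [h, dite_true]; exact hε _
      · simp [h]
    · simp only [i.2, dite_true]
  rcases he with he | he
  · -- blockRank 1
    rw [he] at hl
    rw [hl] at htr
    obtain ⟨ε, h1, h2⟩ := sign_of_rank_one hcard k hsym hmul (by simpa using htr) h0
    obtain ⟨ε', h3, h4'⟩ := hext ε h1
    refine ⟨ε', h3, Or.inl ⟨hl, fun χ hχ ψ hψ => ?_⟩⟩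
    rw [hk4 ⟨χ, hχ⟩ ⟨ψ, hψ⟩, h2, h4' ⟨χ, hχ⟩, h4' ⟨ψ, hψ⟩]
    push_cast
    rfl
  · rw [he] at hl
    rw [hl] at htr
    obtain ⟨ε, h1, h2⟩ := sign_of_rank_one hcard (fun χ ψ => 4 * (if χ = ψ then 1 else 0) - k χ ψ)
      (fun χ ψ => by simp only [hsym χ ψ, eq_comm])
      (fun χ ψ => by
        have e1 : ∀ ζ : ↥B, (4 * (if χ = ζ then (1:ℤ) else 0) - k χ ζ) * (4 * (if ζ = ψ then 1 else 0) - k ζ ψ) =
            16 * (if χ = ζ then (if ζ = ψ then 1 else 0) else 0) - 4 * (if χ = ζ then k ζ ψ else 0) -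
              4 * (if ζ = ψ then k χ ζ else 0) + k χ ζ * k ζ ψ := by
          intro ζ
          split_ifs <;> ring
        rw [Finset.sum_congr rfl fun ζ _ => e1 ζ, Finset.sum_add_distrib, Finset.sum_sub_distrib,
          Finset.sum_sub_distrib, ← Finset.mul_sum, ← Finset.mul_sum, ← Finset.mul_sum, hmul,
          Finset.sum_ite_eq, Finset.sum_ite_eq, Finset.sum_ite_eq']
        simp only [Finset.mem_univ, if_true]
        ring)
      (by
        rw [Finset.sum_sub_distrib, htr]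
        simp [hcard])
      (fun ζ h => h40 ζ (by simp only [if_true] at h; omega))
    obtain ⟨ε', h3, h4'⟩ := hext ε h1
    refine ⟨ε', h3, Or.inr ⟨hl, fun χ hχ ψ hψ => ?_⟩⟩
    rw [hk4 ⟨χ, hχ⟩ ⟨ψ, hψ⟩, h4' ⟨χ, hχ⟩, h4' ⟨ψ, hψ⟩]
    have h5 := h2 ⟨χ, hχ⟩ ⟨ψ, hψ⟩
    have h6 : k ⟨χ, hχ⟩ ⟨ψ, hψ⟩ = 4 * (if χ = ψ then 1 else 0) - ε ⟨χ, hχ⟩ * ε ⟨ψ, hψ⟩ := by
      rw [← h5]
      simp only [Subtype.mk.injEq]
      ring
    rw [h6]
    push_cast
    rfl

end Cfsg.Agent.H645.KKL
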